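import Groth.Agent.Lib.GorMor23.Mor
import Groth.Agent.Lib.CMMor6.BaseChange
import Groth.Agent.Lib.GorFlat.Rings
import Groth.Agent.S1760

/-!
# Base change of Gorenstein morphisms
-/

set_option autoImplicit false
set_option backward.isDefEq.respectTransparency false
set_option linter.style.haveILetI false

universe u

open CategoryTheory CategoryTheory.Limits AlgebraicGeometry IsLocalRing TensorProduct

namespace GrothLib.GorMor23

open GrothLib
open GrothLib.CMMor6 (FibQuot)

theorem isGorensteinRing_tensor_of_essFiniteType (k K L : Type u) [Field k] [Field K] [Field L] [Algebra k K]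
    [Algebra k L] [Algebra.EssFiniteType k K] : LocCoh.IsGorensteinRing (L ⊗[k] K) := by
  haveI : IsNoetherianRing (L ⊗[k] K) :=
    haveI : IsNoetherianRing L := inferInstance
    Algebra.EssFiniteType.isNoetherianRing L _
  have hfg : ∃ s : Finset K, IntermediateField.adjoin k (s : Set K) = ⊤ :=
    IntermediateField.fg_top_iff.2 inferInstance
  have hL : LocCoh.IsGorensteinLocalRing L := GorFlat.gorenstein_of_isRegularLocalRing L
  exact
    { isGorensteinLocalRing_localization := fun p hp =>
        (Groth.Agent.S1760.result k K hfg L ⟨p, hp⟩ (by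
          rw [IsLocalRing.maximalIdeal_eq_bot]
          exact (Ideal.eq_bot_or_top _).resolve_right (Ideal.IsPrime.comap _).ne_top)).1 hL }

theorem isGorensteinRing_tensor_of_essFiniteType_left (k K L : Type u) [Field k] [Field K] [Field L]
    [Algebra k K] [Algebra k L] [Algebra.EssFiniteType k L] : LocCoh.IsGorensteinRing (L ⊗[k] K) :=
  GorFlat.isGorensteinRing_of_ringEquiv (Algebra.TensorProduct.comm k K L).toRingEquiv
    (isGorensteinRing_tensor_of_essFiniteType k L K)

variable {X Y X' Y' : Scheme.{u}}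

theorem gor_fiber_stalk_iff (f : X ⟶ Y) (s : Y) (w : f.fiber s) (x : X) (hw : f.fiberι s w = x) :
    LocCoh.IsGorensteinLocalRing ((f.fiber s).presheaf.stalk w) ↔
      LocCoh.IsGorensteinLocalRing (FibQuot f x) := by
  obtain ⟨hsurj, hker⟩ := GrothLib.FibreFlat.fiberι_stalkMap' f s w x hw
  let e : FibQuot f x ≃+* (f.fiber s).presheaf.stalk w :=
    (Ideal.quotEquivOfEq hker.symm).trans (RingHom.quotientKerEquivOfSurjective hsurj)
  exact (GorFlat.gorenstein_congr e).symm

theorem gor_stalk_spec (T : CommRingCat.{u}) [LocCoh.IsGorensteinRing T] (q : Spec T) :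
    LocCoh.IsGorensteinLocalRing ((Spec T).presheaf.stalk q) := by
  letI : Algebra T ((Spec T).presheaf.stalk q) := StructureSheaf.stalkAlgebra T q
  haveI : IsLocalization.AtPrime ((Spec T).presheaf.stalk q) q.asIdeal :=
    StructureSheaf.IsLocalization.to_stalk T q
  haveI := LocCoh.IsGorensteinRing.isGorensteinLocalRing_localization (A := T) q.asIdeal
  exact GorEquiv.of_ringEquiv
    (IsLocalization.algEquiv q.asIdeal.primeCompl (Localization.AtPrime q.asIdeal)
      ((Spec T).presheaf.stalk q)).toRingEquiv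

/-- Field extensions with Noetherian base change do not affect the Cohen–Macaulay property of a local ring. -/
theorem gor_stalk_fieldExtension' {k K : Type u} [Field k] [Field K] (e : k →+* K)
    {W P : Scheme.{u}} {h : W ⟶ Spec (CommRingCat.of k)} {p₁ : P ⟶ W} {p₂ : P ⟶ Spec (CommRingCat.of K)}
    (hP : IsPullback p₁ p₂ h (Spec.map (CommRingCat.ofHom e))) [IsLocallyNoetherian W] [IsLocallyNoetherian P]
    (z : P) (hT : letI := e.toAlgebra
      letI := (Spec.preimage (W.fromSpecResidueField (p₁ z) ≫ h)).hom.toAlgebra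
      LocCoh.IsGorensteinRing (W.residueField (p₁ z) ⊗[k] K)) :
    LocCoh.IsGorensteinLocalRing (P.presheaf.stalk z) ↔
      LocCoh.IsGorensteinLocalRing (W.presheaf.stalk (p₁ z)) := by
  haveI : Flat (Spec.map (CommRingCat.ofHom e)) := by
    refine Flat.SpecMap_iff.mpr ?_
    letI := e.toAlgebra
    exact (inferInstance : Module.Flat k K)
  haveI : Flat p₁ := MorphismProperty.of_isPullback (P := @Flat) hP.flip ‹_›
  letI : Algebra (W.presheaf.stalk (p₁ z)) (P.presheaf.stalk z) := (p₁.stalkMap z).hom.toAlgebra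
  haveI : IsLocalHom (algebraMap (W.presheaf.stalk (p₁ z)) (P.presheaf.stalk z)) :=
    inferInstanceAs (IsLocalHom (p₁.stalkMap z).hom)
  haveI : Module.Flat (W.presheaf.stalk (p₁ z)) (P.presheaf.stalk z) := Flat.stalkMap p₁ z
  rw [GorFlat.gorenstein_flat_local_iff (W.presheaf.stalk (p₁ z))]
  refine and_iff_left ?_
  show LocCoh.IsGorensteinLocalRing (FibQuot p₁ z)
  rw [← gor_fiber_stalk_iff p₁ (p₁ z) (p₁.asFiber z) z (p₁.fiberι_asFiber z)]
  let L := W.residueField (p₁ z)
  let ψ : CommRingCat.of k ⟶ L := Spec.preimage (W.fromSpecResidueField (p₁ z) ≫ h)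
  letI : Algebra k L := ψ.hom.toAlgebra
  letI : Algebra k K := e.toAlgebra
  haveI : LocCoh.IsGorensteinRing (L ⊗[k] K) := hT
  have hsq : IsPullback (p₁.fiberToSpecResidueField (p₁ z)) (p₁.fiberι (p₁ z) ≫ p₂)
      (Spec.map ψ) (Spec.map (CommRingCat.ofHom e)) := by
    rw [Spec.map_preimage]
    exact (IsPullback.of_hasPullback p₁ (W.fromSpecResidueField (p₁ z))).flip.paste_vert hP
  let E : p₁.fiber (p₁ z) ≅ Spec (CommRingCat.of (L ⊗[k] K)) :=
    hsq.isoPullback ≪≫ pullbackSpecIso k L K
  haveI := gor_stalk_spec (CommRingCat.of (L ⊗[k] K)) (E.hom (p₁.asFiber z))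
  exact GorEquiv.of_ringEquiv
    (asIso (E.hom.stalkMap (p₁.asFiber z))).commRingCatIsoToRingEquiv

/-- Finitely generated field extensions do not affect the Cohen–Macaulay property of a local ring. -/
theorem gor_stalk_fieldExtension {k K : Type u} [Field k] [Field K] (e : k →+* K) (he : e.EssFiniteType)
    {W P : Scheme.{u}} {h : W ⟶ Spec (CommRingCat.of k)} {p₁ : P ⟶ W} {p₂ : P ⟶ Spec (CommRingCat.of K)}
    (hP : IsPullback p₁ p₂ h (Spec.map (CommRingCat.ofHom e))) [IsLocallyNoetherian W] (z : P) :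
    LocCoh.IsGorensteinLocalRing (P.presheaf.stalk z) ↔
      LocCoh.IsGorensteinLocalRing (W.presheaf.stalk (p₁ z)) := by
  haveI : IsLocallyNoetherian P := (GrothLib.Misc6.isLocallyNoetherian_fieldExtension e he hP).2 ‹_›
  letI := e.toAlgebra
  letI := (Spec.preimage (W.fromSpecResidueField (p₁ z) ≫ h)).hom.toAlgebra
  haveI : Algebra.EssFiniteType k K := he
  haveI : IsNoetherianRing (W.residueField (p₁ z) ⊗[k] K) :=
    GrothLib.Misc6.isNoetherianRing_tensor_iff.2 inferInstance
  exact gor_stalk_fieldExtension' e hP z (isGorensteinRing_tensor_of_essFiniteType k K _)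

theorem gor_stalk_fieldExtension_finiteType {k K : Type u} [Field k] [Field K] (e : k →+* K)
    {W P : Scheme.{u}} {h : W ⟶ Spec (CommRingCat.of k)} {p₁ : P ⟶ W} {p₂ : P ⟶ Spec (CommRingCat.of K)}
    (hP : IsPullback p₁ p₂ h (Spec.map (CommRingCat.ofHom e))) [LocallyOfFiniteType h] (z : P) :
    LocCoh.IsGorensteinLocalRing (P.presheaf.stalk z) ↔
      LocCoh.IsGorensteinLocalRing (W.presheaf.stalk (p₁ z)) := by
  haveI : LocallyOfFiniteType p₂ := MorphismProperty.of_isPullback (P := @LocallyOfFiniteType) hP ‹_›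
  haveI : IsLocallyNoetherian W := LocallyOfFiniteType.isLocallyNoetherian h
  haveI : IsLocallyNoetherian P := LocallyOfFiniteType.isLocallyNoetherian p₂
  letI := e.toAlgebra
  let L := W.residueField (p₁ z)
  let ψ : CommRingCat.of k ⟶ L := Spec.preimage (W.fromSpecResidueField (p₁ z) ≫ h)
  letI : Algebra k L := ψ.hom.toAlgebra
  haveI : Algebra.EssFiniteType k L :=
    RingHom.essFiniteType_algebraMap.mp (GrothLib.SchPoints.essFiniteType_residueField h (p₁ z))
  haveI : IsNoetherianRing (L ⊗[k] K) :=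
    haveI : IsNoetherianRing (K ⊗[k] L) := Algebra.EssFiniteType.isNoetherianRing K _
    isNoetherianRing_of_ringEquiv _ (Algebra.TensorProduct.comm k K L).toRingEquiv
  exact gor_stalk_fieldExtension' e hP z (isGorensteinRing_tensor_of_essFiniteType_left k K L)

theorem isGorensteinAt_baseChange_iff_of_finiteType {f : X ⟶ Y} [LocallyOfFiniteType f]
    {f' : X' ⟶ Y'} {g' : X' ⟶ X} {g : Y' ⟶ Y} (hc : IsPullback g' f' f g) (x' : X') :
    LocCoh.IsGorensteinLocalRing (FibQuot f' x') ↔
      LocCoh.IsGorensteinLocalRing (FibQuot f (g' x')) := by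
  let y' := f' x'
  let π := pullback.map f' (Y'.fromSpecResidueField y') f (Y.fromSpecResidueField (g y')) g'
    (Spec.map (g.residueFieldMap y')) g hc.w.symm (by simp)
  have hπ := isPullback_fiberToSpecResidueField_of_isPullback hc y'
  haveI : LocallyOfFiniteType (f.fiberToSpecResidueField (g y')) := MorphismProperty.pullback_snd _ _ ‹_›
  have h1 := gor_stalk_fieldExtension_finiteType (g.residueFieldMap y').hom hπ (f'.asFiber x')
  rw [← gor_fiber_stalk_iff f' y' (f'.asFiber x') x' (f'.fiberι_asFiber x')]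
  refine h1.trans (gor_fiber_stalk_iff f (g y') _ (g' x') ?_)
  show (π ≫ pullback.fst f (Y.fromSpecResidueField (g y'))) (f'.asFiber x') = g' x'
  rw [pullback.lift_fst, Scheme.Hom.comp_apply]
  exact congrArg g' (f'.fiberι_asFiber x')

theorem isGorensteinAt_baseChange_iff {f : X ⟶ Y} (hN : ∀ y : Y, IsLocallyNoetherian (f.fiber y))
    {f' : X' ⟶ Y'} {g' : X' ⟶ X} {g : Y' ⟶ Y} [LocallyOfFiniteType g] (hc : IsPullback g' f' f g) (x' : X') :
    LocCoh.IsGorensteinLocalRing (FibQuot f' x') ↔
      LocCoh.IsGorensteinLocalRing (FibQuot f (g' x')) := by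
  let y' := f' x'
  let π := pullback.map f' (Y'.fromSpecResidueField y') f (Y.fromSpecResidueField (g y')) g'
    (Spec.map (g.residueFieldMap y')) g hc.w.symm (by simp)
  have hπ := isPullback_fiberToSpecResidueField_of_isPullback hc y'
  haveI : IsLocallyNoetherian (pullback f (Y.fromSpecResidueField (g y'))) := hN (g y')
  have h1 := gor_stalk_fieldExtension (g.residueFieldMap y').hom
    (GrothLib.Misc6.residueFieldMap_essFiniteType g y') hπ (f'.asFiber x')
  rw [← gor_fiber_stalk_iff f' y' (f'.asFiber x') x' (f'.fiberι_asFiber x')]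
  refine h1.trans (gor_fiber_stalk_iff f (g y') _ (g' x') ?_)
  show (π ≫ pullback.fst f (Y.fromSpecResidueField (g y'))) (f'.asFiber x') = g' x'
  rw [pullback.lift_fst, Scheme.Hom.comp_apply]
  exact congrArg g' (f'.fiberι_asFiber x')

end GrothLib.GorMor23
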